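import Cfsg.Agent.EqLemmas

/-!
Control of Sylow intersections: bookkeeping.

* `mem_sylowMembers_iff`, `conj_mem_sylowMembers`, `mem_sylowMembers_of_mem`
* `chain_step`: in a chain, `S_{i+1} = x_i • S_i`
* `mem_subgroupConjRight`, `subgroupConjRight_sylow`
-/

set_option autoImplicit false

namespace Cfsg.Agent.SylowChain

variable {G : Type*} [Group G]

theorem mem_subgroupConjRight {g a : G} {X : Subgroup G} :
    a ∈ Cfsg.subgroupConjRight g X ↔ g * a * g⁻¹ ∈ X := by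
  constructor
  · rintro ⟨b, hb, rfl⟩
    simpa [mul_assoc] using hb
  · exact fun h => ⟨_, h, by simp [mul_assoc]⟩

theorem subgroupConjRight_sylow {p : ℕ} (g : G) (S : Sylow p G) :
    Cfsg.subgroupConjRight g (S : Subgroup G) = ((g⁻¹ • S : Sylow p G) : Subgroup G) := by
  rw [Sylow.coe_subgroup_smul]
  rfl

theorem mem_smul_sylow {p : ℕ} {g a : G} {S : Sylow p G} :
    a ∈ ((g • S : Sylow p G) : Subgroup G) ↔ g⁻¹ * a * g ∈ (S : Subgroup G) := by
  rw [← inv_inv g, ← subgroupConjRight_sylow, mem_subgroupConjRight]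
  simp

variable [Finite G] {p : ℕ} [Fact p.Prime] {𝓕 : Set (Subgroup G)}

theorem mem_sylowMembers_iff {S : Sylow p G} {X : Subgroup G} :
    X ∈ Cfsg.sylowMembers p 𝓕 (S : Subgroup G) ↔
      X ∈ 𝓕 ∧ ¬ p ∣ ((S : Subgroup G) ⊓ X).relIndex X := by
  constructor
  · rintro ⟨hX, P, hP⟩
    refine ⟨hX, ?_⟩
    have h : ((S : Subgroup G) ⊓ X).subgroupOf X = (P : Subgroup ↥X) := by
      rw [← hP, Subgroup.subgroupOf, Subgroup.comap_map_eq_self_of_injective X.subtype_injective]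
    show ¬ p ∣ (((S : Subgroup G) ⊓ X).subgroupOf X).index
    rw [h]
    exact P.not_dvd_index
  · rintro ⟨hX, h⟩
    refine ⟨hX, IsPGroup.toSylow (P := ((S : Subgroup G) ⊓ X).subgroupOf X)
      ((S.isPGroup'.to_le inf_le_left).comap_subtype) h, ?_⟩
    show (((S : Subgroup G) ⊓ X).subgroupOf X).map X.subtype = _
    exact Subgroup.map_subgroupOf_eq_of_le inf_le_right

theorem conj_mem_sylowMembers (h𝓕 : Cfsg.IsNormalSet 𝓕) {S : Sylow p G} {X : Subgroup G}
    (hX : X ∈ Cfsg.sylowMembers p 𝓕 (S : Subgroup G)) (g : G) :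
    Cfsg.subgroupConjRight g X ∈ Cfsg.sylowMembers p 𝓕 ((g⁻¹ • S : Sylow p G) : Subgroup G) := by
  rw [mem_sylowMembers_iff] at hX ⊢
  refine ⟨h𝓕 X hX.1 g, ?_⟩
  rw [← subgroupConjRight_sylow, Cfsg.subgroupConjRight, Cfsg.subgroupConjRight,
    ← Subgroup.map_inf _ _ _ (MulAut.conj g⁻¹).injective,
    Subgroup.relIndex_map_map_of_injective _ _ (MulAut.conj g⁻¹).injective]
  exact hX.2

theorem conjRight_self_of_mem {x : G} {X : Subgroup G} (hx : x ∈ X) :
    Cfsg.subgroupConjRight x X = X := by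
  ext a
  rw [mem_subgroupConjRight]
  refine ⟨fun h => ?_, fun h => mul_mem (mul_mem hx h) (inv_mem hx)⟩
  simpa [mul_assoc] using mul_mem (mul_mem (inv_mem hx) h) hx

/-- A member of `𝓕(S)` containing `x` is a member of `𝓕(x • S)`. -/
theorem mem_sylowMembers_of_mem (h𝓕 : Cfsg.IsNormalSet 𝓕) {S : Sylow p G} {X : Subgroup G} {x : G}
    (hX : X ∈ Cfsg.sylowMembers p 𝓕 (S : Subgroup G)) (hx : x ∈ X) :
    X ∈ Cfsg.sylowMembers p 𝓕 ((x • S : Sylow p G) : Subgroup G) := by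
  simpa [conjRight_self_of_mem (inv_mem hx)] using conj_mem_sylowMembers h𝓕 hX x⁻¹

omit [Finite G] [Fact p.Prime] in
theorem chain_step {S T : Sylow p G} {x : G}
    (h : Cfsg.subgroupConjRight x (T : Subgroup G) = (S : Subgroup G)) : T = x • S := by
  rw [subgroupConjRight_sylow] at h
  rw [← Sylow.ext h, smul_inv_smul]

end Cfsg.Agent.SylowChain
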