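import Cfsg.Agent.Lib.SylowChain.Basic

/-!
Control of Sylow intersections, relative versions for subgroup functors.

* `Step`, `Reach`, `controls_of_reach`, `Reach.mono`
* `exists_sylow_inf`: a `p`-subgroup of `M` lies in a Sylow subgroup of `G` cutting `M` in a Sylow subgroup
* `regular_chain`: the chain supplied by regularity of `M`
* `normalizer_mem_functorFamily_top`, `step_functor`
* `regular_top_of_controls`
-/

set_option autoImplicit false

namespace Cfsg.Agent.SylowChain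

variable {G : Type*} [Group G]

/-- One link of a chain of Sylow subgroups whose ends contain `D`. -/
def Step (p : ℕ) (𝓕 : Set (Subgroup G)) (D : Subgroup G) (U V : Sylow p G) : Prop :=
  ∃ X : Subgroup G, ∃ x : G, X ∈ Cfsg.sylowMembers p 𝓕 (U : Subgroup G) ∧
    X ∈ Cfsg.sylowMembers p 𝓕 (V : Subgroup G) ∧ x ∈ X ∧ V = x • U ∧
    D ≤ (V : Subgroup G) ⊓ X

/-- Chains of Sylow subgroups whose ends contain `D`. -/
def Reach (p : ℕ) (𝓕 : Set (Subgroup G)) (D : Subgroup G) : Sylow p G → Sylow p G → Prop :=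
  Relation.ReflTransGen (Step p 𝓕 D)

theorem Reach.mono {p : ℕ} {𝓕 : Set (Subgroup G)} {D D' : Subgroup G} (h : D ≤ D')
    {U V : Sylow p G} (hr : Reach p 𝓕 D' U V) : Reach p 𝓕 D U V := by
  induction hr with
  | refl => exact Relation.ReflTransGen.refl
  | tail _ hs ih =>
    obtain ⟨X, x, h1, h2, h3, h4, h5⟩ := hs
    exact ih.tail ⟨X, x, h1, h2, h3, h4, h.trans h5⟩

theorem controls_of_reach {p : ℕ} {𝓕 : Set (Subgroup G)}
    (h : ∀ S T : Sylow p G, S ≠ T → (S : Subgroup G) ⊓ (T : Subgroup G) ≠ ⊥ →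
      Reach p 𝓕 ((S : Subgroup G) ⊓ (T : Subgroup G)) S T) :
    Cfsg.ControlsSylowIntersections p 𝓕 := by
  intro S T hST hne
  have hr := h S T hST hne
  generalize (S : Subgroup G) ⊓ (T : Subgroup G) = D at hr ⊢
  clear hST hne
  induction hr with
  | refl => exact ⟨0, fun _ => S, Fin.elim0, Fin.elim0, rfl, rfl, fun i => i.elim0⟩
  | @tail U V _ hstep ih =>
    obtain ⟨n, c, X, x, h0, hlast, hc⟩ := ih
    obtain ⟨Y, y, h1, h2, h3, h4, h5⟩ := hstep
    refine ⟨n + 1, Fin.snoc c V, Fin.snoc X Y, Fin.snoc x y, ?_, by simp, fun i => ?_⟩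
    · have he : (0 : Fin (n + 2)) = (0 : Fin (n + 1)).castSucc := rfl
      rw [he, Fin.snoc_castSucc, h0]
    · induction i using Fin.lastCases with
      | last =>
        simp only [Fin.snoc_last, Fin.succ_last, Fin.snoc_castSucc]
        rw [hlast]
        refine ⟨h1, h2, h3, ?_, h5⟩
        rw [h4, subgroupConjRight_sylow, inv_smul_smul]
      | cast j =>
        simp only [Fin.succ_castSucc, Fin.snoc_castSucc]
        exact hc j

variable [Finite G] {p : ℕ} [Fact p.Prime]

/-- A `p`-subgroup of `M` lies in a Sylow subgroup of `G` cutting `M` in a Sylow subgroup of `M`. -/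
theorem exists_sylow_inf {M A : Subgroup G} (hA : IsPGroup p A) (hAM : A ≤ M) :
    ∃ U : Sylow p G, A ≤ (U : Subgroup G) ∧ ∃ P : Sylow p ↥M,
      (P : Subgroup ↥M).map M.subtype = (U : Subgroup G) ⊓ M := by
  obtain ⟨P, hP⟩ := (hA.comap_subtype (K := M)).exists_le_sylow
  obtain ⟨U, hU⟩ := (P.isPGroup'.map M.subtype).exists_le_sylow
  refine ⟨U, fun a ha => hU ⟨⟨a, hAM ha⟩, hP ha, rfl⟩, P, ?_⟩
  refine le_antisymm (le_inf hU (Subgroup.map_subtype_le _)) fun a ha => ?_
  have hle : (P : Subgroup ↥M) ≤ (U : Subgroup G).comap M.subtype := fun b hb => hU ⟨b, hb, rfl⟩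
  exact ⟨⟨a, ha.2⟩, P.is_maximal' (U.isPGroup'.comap_subtype (K := M)) hle ▸ ha.1, rfl⟩

/-- The link relation supplied by regularity of `M`. -/
def RelIn (f : Subgroup G → Set (Subgroup G)) (M : Subgroup G) (D : Subgroup G)
    (A B : Sylow p ↥M) : Prop :=
  ∃ (P : Sylow p ↥M) (F : Subgroup G) (x : ↥M), F ∈ f ((P : Subgroup ↥M).map M.subtype) ∧
    B = x • A ∧ (x : G) ∈ Subgroup.normalizer (F : Set G) ∧
    (A : Subgroup ↥M).map M.subtype ≤ Subgroup.normalizer (F : Set G) ∧
    (B : Subgroup ↥M).map M.subtype ≤ Subgroup.normalizer (F : Set G) ∧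
    D ≤ (B : Subgroup ↥M).map M.subtype

theorem regular_chain {f : Subgroup G → Set (Subgroup G)} (hf : Cfsg.IsNormalizerFunctor p f)
    {M : Subgroup G} (hr : Cfsg.IsFunctorRegular p f M) {A B : Sylow p ↥M} (hAB : A ≠ B)
    {D : Subgroup G} (hD : D ≠ ⊥) (hDA : D ≤ (A : Subgroup ↥M).map M.subtype)
    (hDB : D ≤ (B : Subgroup ↥M).map M.subtype) :
    Relation.ReflTransGen (RelIn f M D) A B := by
  have hne : (A : Subgroup ↥M) ⊓ (B : Subgroup ↥M) ≠ ⊥ := by
    intro h
    refine hD (le_bot_iff.mp ?_)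
    have := le_inf hDA hDB
    rwa [← Subgroup.map_inf _ _ _ M.subtype_injective, h, Subgroup.map_bot] at this
  obtain ⟨n, c, X, x, h0, hlast, hc⟩ := hr A B hAB hne
  have key : ∀ i : Fin (n + 1), Relation.ReflTransGen (RelIn f M D) A (c i) := by
    intro i
    induction i using Fin.induction with
    | zero => rw [h0]
    | succ i ih =>
      refine ih.tail ?_
      obtain ⟨hX1, hX2, hx, hconj, hDi⟩ := hc i
      obtain ⟨⟨Y, ⟨P, F, hF, hY⟩, hYX⟩, -⟩ := hX1
      have hPN : (P : Subgroup ↥M) ≤ X i := by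
        intro a ha
        rw [← hYX]
        show (a : G) ∈ Y
        rw [hY]
        exact ⟨a.2, ((hf _ (P.isPGroup'.map _)).1 F hF).2
          (Subgroup.le_normalizer ⟨a, ha, rfl⟩)⟩
      have hfull : ∀ C : Sylow p ↥M,
          X i ∈ Cfsg.sylowMembers p
            ((fun X : Subgroup G => X.subgroupOf M) '' Cfsg.functorFamily p f M) (C : Subgroup ↥M) →
          (C : Subgroup ↥M) ≤ X i := by
        rintro C ⟨-, Q, hQ⟩
        have hcard : Nat.card (C : Subgroup ↥M) ≤
            Nat.card ↥((C : Subgroup ↥M) ⊓ X i) := by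
          rw [← hQ, Subgroup.card_map_of_injective (X i).subtype_injective,
            ← Nat.card_congr (Sylow.equiv P C).toEquiv, ← Nat.card_congr (Sylow.equiv (P.subtype hPN) Q).toEquiv]
          exact le_of_eq (Nat.card_congr (Subgroup.subgroupOfEquivOfLe hPN).toEquiv).symm
        exact inf_eq_left.mp (Subgroup.eq_of_le_of_card_ge inf_le_left hcard)
      have hA' := hfull _ ⟨hc i |>.1.1, hc i |>.1.2⟩
      have hB' := hfull _ hX2
      have hXN : ∀ a : ↥M, a ∈ X i → (a : G) ∈ Subgroup.normalizer (F : Set G) := by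
        intro a ha
        rw [← hYX] at ha
        have ha' : (a : G) ∈ Y := ha
        rw [hY] at ha'
        exact ha'.2
      refine ⟨P, F, x i, hF, chain_step hconj, hXN _ hx, ?_, ?_, ?_⟩
      · rintro _ ⟨a, ha, rfl⟩; exact hXN a (hA' ha)
      · rintro _ ⟨a, ha, rfl⟩; exact hXN a (hB' ha)
      · intro d hd
        obtain ⟨a, ha, rfl⟩ := hDA hd
        obtain ⟨b, hb, hba⟩ := hDB hd
        rw [Subtype.ext hba] at hb
        exact ⟨a, (hDi ⟨h0 ▸ ha, hlast ▸ hb⟩).1, rfl⟩
  exact hlast ▸ key (Fin.last n)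

omit [Finite G] [Fact p.Prime] in
theorem normalizer_mem_functorFamily_top (f : Subgroup G → Set (Subgroup G)) (U : Sylow p G)
    {F : Subgroup G} (hF : F ∈ f (U : Subgroup G)) :
    Subgroup.normalizer (F : Set G) ∈ Cfsg.functorFamily p f ⊤ := by
  refine ⟨U.subtype le_top, F, ?_, (top_inf_eq _).symm⟩
  rwa [Sylow.coe_subtype, Subgroup.map_subgroupOf_eq_of_le le_top]

/-- A link inside `N(F)`, `F` a functor value at a Sylow subgroup. -/
theorem step_functor {f : Subgroup G → Set (Subgroup G)} {𝓕 : Set (Subgroup G)}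
    (h𝓕 : Cfsg.functorFamily p f ⊤ ⊆ 𝓕) {D : Subgroup G} {U V W : Sylow p G}
    {F : Subgroup G} (hF : F ∈ f (W : Subgroup G)) {x : G}
    (hx : x ∈ Subgroup.normalizer (F : Set G))
    (hU : (U : Subgroup G) ≤ Subgroup.normalizer (F : Set G))
    (hV : (V : Subgroup G) ≤ Subgroup.normalizer (F : Set G))
    (hVU : V = x • U) (hD : D ≤ (V : Subgroup G)) : Step p 𝓕 D U V := by
  have hmem : ∀ U' : Sylow p G, (U' : Subgroup G) ≤ Subgroup.normalizer (F : Set G) →
      Subgroup.normalizer (F : Set G) ∈ Cfsg.sylowMembers p 𝓕 (U' : Subgroup G) := fun U' h => by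
    rw [mem_sylowMembers_iff]
    refine ⟨h𝓕 (normalizer_mem_functorFamily_top f W hF), fun hd => U'.not_dvd_index ?_⟩
    rw [inf_eq_left.mpr h] at hd
    exact hd.trans (Subgroup.relIndex_dvd_index_of_le h)
  exact ⟨_, x, hmem U hU, hmem V hV, hx, hVU, le_inf hD (hD.trans hV)⟩

/-- Control for the functor family in `G` makes `⊤` regular. -/
theorem regular_top_of_controls {f : Subgroup G → Set (Subgroup G)}
    (h : Cfsg.ControlsSylowIntersections p (Cfsg.functorFamily p f ⊤)) :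
    Cfsg.IsFunctorRegular p f ⊤ := by
  intro S T hST hne
  have hsurj : Function.Surjective (⊤ : Subgroup G).subtype := fun g => ⟨⟨g, trivial⟩, rfl⟩
  have hinj : ∀ A B : Sylow p ↥(⊤ : Subgroup G),
      A.mapSurjective hsurj = B.mapSurjective hsurj → A = B := fun A B h =>
    Sylow.ext (Subgroup.map_injective (Subgroup.subtype_injective _)
      (congrArg (fun W : Sylow p G => (W : Subgroup G)) h))
  obtain ⟨n, c, X, x, h0, hlast, hc⟩ := h (S.mapSurjective hsurj) (T.mapSurjective hsurj)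
    (fun he => hST (hinj _ _ he)) (by
      rw [Sylow.coe_mapSurjective, Sylow.coe_mapSurjective,
        ← Subgroup.map_inf _ _ _ (Subgroup.subtype_injective _)]
      exact fun hb => hne ((Subgroup.map_eq_bot_iff_of_injective _ (Subgroup.subtype_injective _)).mp hb))
  let c' : Fin (n + 1) → Sylow p ↥(⊤ : Subgroup G) := fun i => (c i).subtype le_top
  have hcc : ∀ i, (c' i).mapSurjective hsurj = c i := fun i => Sylow.ext (by
    rw [Sylow.coe_mapSurjective]
    exact Subgroup.map_subgroupOf_eq_of_le le_top)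
  refine ⟨n, c', fun i => (X i).subgroupOf ⊤, fun i => ⟨x i, trivial⟩, hinj _ _ (by rw [hcc, h0]),
    hinj _ _ (by rw [hcc, hlast]), fun i => ?_⟩
  obtain ⟨hX1, hX2, hx, hconj, hD⟩ := hc i
  have hmem : ∀ C : Fin (n + 1), X i ∈ Cfsg.sylowMembers p (Cfsg.functorFamily p f ⊤) (c C : Subgroup G) →
      (X i).subgroupOf ⊤ ∈ Cfsg.sylowMembers p
        ((fun X : Subgroup G => X.subgroupOf ⊤) '' Cfsg.functorFamily p f ⊤) (c' C : Subgroup _) := by
    intro C hC
    rw [mem_sylowMembers_iff] at hC ⊢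
    refine ⟨⟨_, hC.1, rfl⟩, ?_⟩
    have h2 := Subgroup.relIndex_map_map_of_injective
      ((c' C : Subgroup ↥(⊤ : Subgroup G)) ⊓ (X i).subgroupOf ⊤) ((X i).subgroupOf ⊤)
      (Subgroup.subtype_injective (⊤ : Subgroup G))
    rw [Subgroup.map_inf _ _ _ (Subgroup.subtype_injective _),
      Subgroup.map_subgroupOf_eq_of_le le_top] at h2
    rw [← h2, ← Sylow.coe_mapSurjective hsurj, hcc]
    exact hC.2
  refine ⟨hmem _ hX1, hmem _ hX2, hx, ?_, ?_⟩
  · ext a
    rw [mem_subgroupConjRight]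
    show x i * (a : G) * (x i)⁻¹ ∈ (c i.succ : Subgroup G) ↔ (a : G) ∈ (c i.castSucc : Subgroup G)
    rw [← hconj, mem_subgroupConjRight]
  · intro a ha
    exact hD ⟨⟨a, ha.1, rfl⟩, ⟨a, ha.2, rfl⟩⟩

end Cfsg.Agent.SylowChain
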